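import Mathlib

/-!
Signed permutation matrices in dimension seven, and the finite checks on the Sylow model used for the
2-fusion system of `Ω₇(q)`.
-/

set_option autoImplicit false
set_option maxRecDepth 100000
set_option synthInstance.maxSize 2000
set_option synthInstance.maxHeartbeats 200000

namespace CfsgLib.KnownC.OmegaSevenTwo

open Matrix

/-- A permutation of the coordinates with signs. -/
abbrev Pair := Equiv.Perm (Fin 7) × (Fin 7 → ℤˣ)

/-- The product of signed permutations. -/
def pmul (a b : Pair) : Pair := (a.1 * b.1, fun i => a.2 i * b.2 (a.1.symm i))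

/-- The matrix of a signed permutation. -/
def mon (R : Type*) [CommRing R] (a : Pair) : Matrix (Fin 7) (Fin 7) R :=
  fun i j => if i = a.1 j then ((a.2 i : ℤ) : R) else 0

variable {R : Type*} [CommRing R]

theorem mon_mul (a b : Pair) : mon R a * mon R b = mon R (pmul a b) := by
  ext i j
  rw [Matrix.mul_apply, Finset.sum_eq_single (b.1 j)]
  · by_cases h : i = a.1 (b.1 j)
    · subst h
      simp [mon, pmul]
    · simp [mon, pmul, h]
  · intro k _ hk
    simp [mon, hk]
  · simp

theorem mon_one : mon R ((1 : Equiv.Perm (Fin 7)), 1) = 1 := by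
  ext i j
  simp [mon, Matrix.one_apply]

theorem mon_mulVec (a : Pair) (z : Fin 7 → R) :
    mon R a *ᵥ z = fun i => ((a.2 i : ℤ) : R) * z (a.1.symm i) := by
  funext i
  rw [Matrix.mulVec, dotProduct, Finset.sum_eq_single (a.1.symm i)]
  · simp [mon]
  · intro k _ hk
    rw [mon, if_neg (fun h => hk (by rw [h, Equiv.symm_apply_apply])), zero_mul]
  · simp

theorem mon_map {S : Type*} [CommRing S] (f : R →+* S) (a : Pair) : (mon R a).map f = mon S a := by
  ext i j
  simp only [mon, Matrix.map_apply]
  split <;> simp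

theorem mon_injective {F : Type*} [Field F] (h2 : (2 : F) ≠ 0) : Function.Injective (mon F) := by
  have hu : ∀ u v : ℤˣ, ((u : ℤ) : F) = ((v : ℤ) : F) → u = v := fun u v h => by
    rcases Int.units_eq_one_or u with rfl | rfl <;> rcases Int.units_eq_one_or v with rfl | rfl <;>
      first | rfl | (exfalso; norm_num at h; exact h2 (by linear_combination h)) |
        (exfalso; norm_num at h; exact h2 (by linear_combination -h))
  have hne : ∀ u : ℤˣ, ((u : ℤ) : F) ≠ 0 := fun u => by
    rcases Int.units_eq_one_or u with rfl | rfl <;> simp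
  intro a b h
  have h1 : a.1 = b.1 := Equiv.ext fun j => by
    have e := congrFun (congrFun h (a.1 j)) j
    by_contra hc
    simp [mon, hc] at e
    exact hne _ e
  refine Prod.ext h1 (funext fun i => hu _ _ ?_)
  have e := congrFun (congrFun h i) (a.1.symm i)
  rw [mon, mon, if_pos (by simp), if_pos (by simp [← h1])] at e
  exact e

/-- The generators of the dihedral part. -/
def rA : Equiv.Perm (Fin 7) := Equiv.swap 0 1 * Equiv.swap 4 5

/-- The generators of the dihedral part. -/
def rB : Equiv.Perm (Fin 7) := Equiv.swap 0 2 * Equiv.swap 1 3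

/-- The permutation part of the Sylow model. -/
def perms : List (Equiv.Perm (Fin 7)) :=
  [1, rA, rB, rA * rB, rB * rA, rA * rB * rA, rB * rA * rB, rA * rB * rA * rB]

/-- The Sylow model. -/
def Mem (a : Pair) : Prop := a.1 ∈ perms ∧ ∏ i, a.2 i = 1

theorem perms_mul : ∀ a ∈ perms, ∀ b ∈ perms, a * b ∈ perms := by decide +kernel

theorem mem_pmul {a b : Pair} (ha : Mem a) (hb : Mem b) : Mem (pmul a b) := by
  refine ⟨perms_mul _ ha.1 _ hb.1, ?_⟩
  show ∏ i, a.2 i * b.2 (a.1.symm i) = 1
  rw [Finset.prod_mul_distrib, ha.2, one_mul, Equiv.prod_comp a.1.symm b.2, hb.2]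

/-- Signs negative on a list of coordinates. -/
def flips (l : List (Fin 7)) : Fin 7 → ℤˣ := fun i => if i ∈ l then -1 else 1

/-- A product of signs of pairs containing the last coordinate. -/
theorem signs_eq : ∀ s : Fin 7 → ℤˣ, ∏ i, s i = 1 →
    s = fun j => ∏ i : Fin 6, if s i.castSucc = -1 then flips [i.castSucc, 6] j else 1 := by
  decide +kernel

theorem card_model : ({a : Pair | a.1 ∈ perms ∧ ∏ i, a.2 i = 1} : Set Pair).ncard = 512 := by
  have h : ({a : Pair | a.1 ∈ perms ∧ ∏ i, a.2 i = 1} : Set Pair) =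
      ↑(perms.toFinset ×ˢ Finset.univ.filter fun s : Fin 7 → ℤˣ => ∏ i, s i = 1) := by
    ext a
    simp
  rw [h, Set.ncard_coe_finset, Finset.card_product,
    show perms.toFinset.card = 8 by decide +kernel,
    show (Finset.univ.filter fun s : Fin 7 → ℤˣ => ∏ i, s i = 1).card = 64 by decide +kernel]

/-- The pairs of the model that commute with all of it. -/
theorem centre_model : ∀ p ∈ perms, ∀ s : Fin 7 → ℤˣ, ∏ i, s i = 1 →
    pmul (p, s) (1, flips [0, 6]) = pmul (1, flips [0, 6]) (p, s) →
    pmul (p, s) (rA, 1) = pmul (rA, 1) (p, s) →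
    pmul (p, s) (rB, 1) = pmul (rB, 1) (p, s) →
    p = 1 ∧ (s = 1 ∨ s = flips [4, 5] ∨ s = flips [0, 1, 2, 3] ∨ s = flips [0, 1, 2, 3, 4, 5]) := by
  decide +kernel

/-- Candidates for conjugates of the sign change at a pair inside the four-block. -/
theorem block_four : ∀ p ∈ perms, ∀ s : Fin 7 → ℤˣ, ∏ i, s i = 1 →
    p 4 = 4 → s 4 = 1 → s 5 = 1 → p 6 = 6 → s 6 = -1 →
    (∃ i : Fin 4, p = 1 ∧ s = flips [i.castLE (by norm_num), 6]) ∨
      (∑ j, if p j = j then (s j : ℤ) else 0) ∈ ({1, -1} : Finset ℤ) := by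
  decide +kernel

/-- Candidates for conjugates of the sign change at a pair inside the two-block. -/
theorem block_two : ∀ p ∈ perms, ∀ s : Fin 7 → ℤˣ, ∏ i, s i = 1 →
    (∀ j : Fin 4, p (j.castLE (by norm_num)) = j.castLE (by norm_num) ∧ s (j.castLE (by norm_num)) = 1) →
    s 6 = -1 → p = 1 ∧ (s = flips [4, 6] ∨ s = flips [5, 6]) := by
  decide +kernel

/-- A map of the four-block extended by the identity. -/
def ext4 (π : Fin 4 → Fin 4) (i : Fin 7) : Fin 7 :=
  if h : i.val < 4 then (π ⟨i.val, h⟩).castLE (by norm_num) else i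

/-- A map normalizing the permutation part has period dividing eight. -/
theorem normalizer_model : ∀ π : Fin 4 → Fin 4, Function.Injective π →
    (∀ d ∈ perms, ∃ d' ∈ perms, ∀ i, ext4 π (d i) = d' (ext4 π i)) →
    ∀ i, (ext4 π)^[8] i = i := by
  decide +kernel

end CfsgLib.KnownC.OmegaSevenTwo
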