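import Mathlib
import Cfsg.Agent.Lib.KnownC.OmegaSevenTwo.Mon

/-!
Conjugations and products carrying a central involution of the Sylow model of `Ω₇(q)` to generators.
-/

set_option autoImplicit false
set_option maxRecDepth 100000

namespace CfsgLib.KnownC.OmegaSevenTwo

open Matrix

/-- An element of the model by index and sign list. -/
def el (k : ℕ) (l : List (Fin 7)) : Pair := (perms.getD k 1, flips l)

/-- A step of a certificate. -/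
inductive Move where
  | conj (h : Bool) (σ : List (Fin 7 × Fin 7 × Fin 7 × Fin 7)) (a b : Pair) : Move
  | prod (a b d : Pair) : Move

/-- The permutation of a list of pairs of transpositions. -/
def quadPerm : List (Fin 7 × Fin 7 × Fin 7 × Fin 7) → Equiv.Perm (Fin 7)
  | [] => 1
  | (a, b, c, d) :: l => (Equiv.swap a b * Equiv.swap c d) * quadPerm l

/-- The integer matrix of a mover. -/
def moverMat (h : Bool) (σ : List (Fin 7 × Fin 7 × Fin 7 × Fin 7)) : Matrix (Fin 7) (Fin 7) ℤ :=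
  (if h then !![1, 1, 1, 1, 0, 0, 0; 1, 1, -1, -1, 0, 0, 0; 1, -1, 1, -1, 0, 0, 0; 1, -1, -1, 1, 0, 0, 0;
    0, 0, 0, 0, 2, 0, 0; 0, 0, 0, 0, 0, 2, 0; 0, 0, 0, 0, 0, 0, -2] else 1) * mon ℤ (quadPerm σ, 1)

/-- Checking a certificate. -/
def runMoves : List Pair → List Move → Bool
  | known, [] =>
    decide (el 1 [] ∈ known ∧ el 2 [] ∈ known ∧ ∀ i : Fin 6, el 0 [i.castSucc, 6] ∈ known)
  | known, .prod a b d :: l =>
    decide (a ∈ known ∧ b ∈ known ∧ pmul a b = d) && runMoves (d :: known) l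
  | known, .conj h σ a b :: l =>
    decide (a ∈ known ∧ b.1 ∈ perms ∧ ∏ i, b.2 i = 1) &&
      σ.all (fun q => decide (q.1 ≠ q.2.1 ∧ q.2.2.1 ≠ q.2.2.2)) &&
      decide (moverMat h σ * mon ℤ a = mon ℤ b * moverMat h σ) && runMoves (b :: known) l

/-- The moves from a central involution. -/
def moves1 : List Move :=
  [Move.conj false [(4, 5, 5, 6)] (el 0 [4, 5]) (el 0 [5, 6]),
   Move.conj false [(0, 1, 1, 2), (2, 3, 3, 4)] (el 0 [4, 5]) (el 0 [0, 5]),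
   Move.prod (el 0 [5, 6]) (el 0 [0, 5]) (el 0 [0, 6]),
   Move.conj false [(1, 2, 0, 1), (2, 3, 3, 4)] (el 0 [4, 5]) (el 0 [1, 5]),
   Move.prod (el 0 [5, 6]) (el 0 [1, 5]) (el 0 [1, 6]),
   Move.conj false [(4, 5, 5, 6), (2, 3, 3, 4)] (el 0 [4, 5]) (el 0 [2, 6]),
   Move.conj false [(3, 4, 4, 5), (4, 5, 5, 6)] (el 0 [4, 5]) (el 0 [3, 6]),
   Move.conj false [(5, 6, 4, 5)] (el 0 [4, 5]) (el 0 [4, 6]),
   Move.conj false [(4, 5, 3, 4)] (el 0 [4, 5]) (el 0 [3, 4]),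
   Move.conj true [(3, 4, 2, 3)] (el 0 [3, 4]) (el 7 []),
   Move.conj false [(3, 4, 4, 5), (2, 3, 3, 4)] (el 7 []) (el 1 []),
   Move.conj true [(3, 4, 4, 5)] (el 0 [1, 5]) (el 2 [])]

/-- The moves from a central involution. -/
def moves2 : List Move :=
  [Move.conj false [(0, 1, 1, 2), (2, 3, 3, 4)] (el 0 [0, 1, 2, 3]) (el 0 [1, 2, 3, 4]),
   Move.conj false [(3, 4, 4, 5)] (el 0 [0, 1, 2, 3]) (el 0 [0, 1, 2, 4]),
   Move.conj false [(4, 5, 5, 6), (4, 5, 3, 4)] (el 0 [0, 1, 2, 3]) (el 0 [0, 1, 2, 6]),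
   Move.prod (el 0 [0, 1, 2, 3]) (el 0 [0, 1, 2, 6]) (el 0 [3, 6]),
   Move.prod (el 0 [0, 1, 2, 4]) (el 0 [3, 6]) (el 0 [0, 1, 2, 3, 4, 6]),
   Move.prod (el 0 [1, 2, 3, 4]) (el 0 [0, 1, 2, 3, 4, 6]) (el 0 [0, 6]),
   Move.conj false [(5, 6, 4, 5), (2, 3, 3, 4)] (el 0 [0, 1, 2, 3]) (el 0 [0, 1, 3, 6]),
   Move.prod (el 0 [0, 1, 2, 4]) (el 0 [0, 1, 3, 6]) (el 0 [2, 3, 4, 6]),
   Move.prod (el 0 [1, 2, 3, 4]) (el 0 [2, 3, 4, 6]) (el 0 [1, 6]),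
   Move.prod (el 0 [0, 1, 2, 3]) (el 0 [0, 1, 3, 6]) (el 0 [2, 6]),
   Move.prod (el 0 [0, 1, 2, 4]) (el 0 [0, 1, 2, 6]) (el 0 [4, 6]),
   Move.conj false [(4, 5, 3, 4)] (el 0 [0, 1, 2, 3]) (el 0 [0, 1, 2, 5]),
   Move.prod (el 0 [0, 1, 2, 5]) (el 0 [0, 1, 2, 6]) (el 0 [5, 6]),
   Move.prod (el 0 [0, 1, 2, 3]) (el 0 [0, 1, 2, 4]) (el 0 [3, 4]),
   Move.conj true [(3, 4, 2, 3)] (el 0 [3, 4]) (el 7 []),
   Move.conj false [(3, 4, 4, 5), (2, 3, 3, 4)] (el 7 []) (el 1 []),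
   Move.conj false [(1, 2, 0, 1), (2, 3, 3, 4)] (el 0 [0, 1, 2, 3]) (el 0 [0, 2, 3, 4]),
   Move.prod (el 0 [0, 1, 2, 3]) (el 0 [0, 2, 3, 4]) (el 0 [1, 4]),
   Move.conj true [(4, 5, 3, 4)] (el 0 [1, 4]) (el 2 [])]

/-- The moves from a central involution. -/
def moves3 : List Move :=
  [Move.conj false [(4, 5, 5, 6)] (el 0 [0, 1, 2, 3, 4, 5]) (el 0 [0, 1, 2, 3, 5, 6]),
   Move.prod (el 0 [0, 1, 2, 3, 4, 5]) (el 0 [0, 1, 2, 3, 5, 6]) (el 0 [4, 6]),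
   Move.conj false [(0, 1, 1, 2), (2, 3, 3, 4)] (el 0 [4, 6]) (el 0 [0, 6]),
   Move.conj false [(1, 2, 0, 1), (2, 3, 3, 4)] (el 0 [4, 6]) (el 0 [1, 6]),
   Move.conj false [(2, 3, 3, 4), (4, 5, 5, 6)] (el 0 [0, 1, 2, 3, 4, 5]) (el 0 [0, 1, 3, 4, 5, 6]),
   Move.prod (el 0 [0, 1, 2, 3, 4, 5]) (el 0 [0, 1, 3, 4, 5, 6]) (el 0 [2, 6]),
   Move.conj false [(3, 4, 4, 5), (5, 6, 4, 5)] (el 0 [0, 1, 2, 3, 4, 5]) (el 0 [0, 1, 2, 4, 5, 6]),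
   Move.prod (el 0 [0, 1, 2, 3, 4, 5]) (el 0 [0, 1, 2, 4, 5, 6]) (el 0 [3, 6]),
   Move.conj false [(5, 6, 4, 5)] (el 0 [0, 1, 2, 3, 4, 5]) (el 0 [0, 1, 2, 3, 4, 6]),
   Move.prod (el 0 [0, 1, 2, 3, 4, 5]) (el 0 [0, 1, 2, 3, 4, 6]) (el 0 [5, 6]),
   Move.prod (el 0 [0, 1, 2, 3, 5, 6]) (el 0 [0, 1, 2, 4, 5, 6]) (el 0 [3, 4]),
   Move.conj true [(3, 4, 2, 3)] (el 0 [3, 4]) (el 7 []),
   Move.conj false [(3, 4, 4, 5), (2, 3, 3, 4)] (el 7 []) (el 1 []),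
   Move.prod (el 0 [0, 1, 2, 4, 5, 6]) (el 0 [0, 1, 3, 4, 5, 6]) (el 0 [2, 3]),
   Move.conj true [(1, 2, 0, 1)] (el 0 [2, 3]) (el 2 [])]

theorem moves1_ok : runMoves [el 0 [4, 5]] moves1 = true := by decide +kernel

theorem moves2_ok : runMoves [el 0 [0, 1, 2, 3]] moves2 = true := by decide +kernel

theorem moves3_ok : runMoves [el 0 [0, 1, 2, 3, 4, 5]] moves3 = true := by decide +kernel

end CfsgLib.KnownC.OmegaSevenTwo
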