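import Mathlib
import Cfsg.Agent.Lib.BlockA.OrthBlocks
import Cfsg.Agent.Lib.KnownC.OmegaSevenTwo.Mon

/-!
The group `Ω` of a scaled sum of seven squares: signed permutations, a Sylow `2`-subgroup and the
element mixing the first four coordinates.
-/

set_option autoImplicit false
set_option maxRecDepth 100000

namespace CfsgLib.KnownC.OmegaSevenTwo

open CfsgLib.Geom CfsgLib.BlockA.ReflOmega CfsgLib.BlockA.OrthBlocks CfsgLib.BlockA.SqComm
open QuadraticMap (polar)
open Matrix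

variable {F : Type*} [Field F]

/-- The scaled sum of seven squares. -/
noncomputable abbrev Q7 (c : F) : QuadraticForm F (Fin 7 → F) := wq (fun _ : Fin 7 => c)

/-- Its group. -/
noncomputable abbrev G7 (c : F) : Subgroup (Cfsg.isometryGroup F (⇑(Q7 c))) := Cfsg.Omega F (⇑(Q7 c))

/-- The matrix of an element. -/
def mv {c : F} (x : G7 c) : Matrix (Fin 7) (Fin 7) F :=
  ((x : Cfsg.isometryGroup F (⇑(Q7 c))) : Matrix.GeneralLinearGroup (Fin 7) F).val

theorem mv_mul {c : F} (x y : G7 c) : mv (x * y) = mv x * mv y := rfl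

theorem mv_one {c : F} : mv (1 : G7 c) = 1 := rfl

theorem mv_pow {c : F} (x : G7 c) (n : ℕ) : mv (x ^ n) = mv x ^ n := by
  induction n with
  | zero => rfl
  | succ n ih => rw [pow_succ, mv_mul, ih, pow_succ]

theorem mv_injective {c : F} : Function.Injective (mv (c := c)) := fun _ _ h =>
  Subtype.ext (Subtype.ext (Units.ext h))

theorem mv_inv_mul {c : F} (x : G7 c) : mv x⁻¹ * mv x = 1 := by
  rw [← mv_mul, inv_mul_cancel, mv_one]

/-- A matrix realized in the group. -/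
def Real (c : F) (M : Matrix (Fin 7) (Fin 7) F) : Prop := ∃ x : G7 c, mv x = M

theorem Real.mul {c : F} {M N : Matrix (Fin 7) (Fin 7) F} (hM : Real c M) (hN : Real c N) :
    Real c (M * N) := by
  obtain ⟨x, rfl⟩ := hM
  obtain ⟨y, rfl⟩ := hN
  exact ⟨x * y, rfl⟩

theorem real_one (c : F) : Real c 1 := ⟨1, rfl⟩

variable [Finite F]

/-- Two reflections in vectors of the same norm. -/
theorem real_refl_pair (h2 : (2 : F) ≠ 0) {c : F} (hc : c ≠ 0) (v w : Fin 7 → F)
    (hv : v ⬝ᵥ v ≠ 0) (h : v ⬝ᵥ v = w ⬝ᵥ w) (M N : Matrix (Fin 7) (Fin 7) F)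
    (hM : ∀ z, M *ᵥ z = z - (2 * (v ⬝ᵥ z) / (v ⬝ᵥ v)) • v)
    (hN : ∀ z, N *ᵥ z = z - (2 * (w ⬝ᵥ z) / (w ⬝ᵥ w)) • w) : Real c (M * N) := by
  have hQ : ∀ u, Q7 c u = c * (u ⬝ᵥ u) := fun u => by
    rw [wq_apply, dotProduct, Finset.mul_sum]
  have hP : ∀ u z, polar (Q7 c) u z = 2 * c * (u ⬝ᵥ z) := fun u z => by
    rw [wq_polar, dotProduct, Finset.mul_sum]
  have hv' : Q7 c v ≠ 0 := by rw [hQ]; exact mul_ne_zero hc hv
  have hw' : Q7 c w ≠ 0 := by rw [hQ, ← h]; exact mul_ne_zero hc hv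
  have hsep := wq_sep h2 (fun _ : Fin 7 => c) (fun _ => hc)
  have hmem : refl (Q7 c) v hv' * refl (Q7 c) w hw' ∈ Cfsg.Omega F (⇑(Q7 c)) := by
    rw [omega_eq_ker_spinorHom (Q7 c) hsep (exGen h2), MonoidHom.mem_ker, map_mul,
      spinor_refl _ hsep h2, spinor_refl _ hsep h2, Prod.mk_mul_mk,
      sqClass_congr' (show Q7 c v = Q7 c w by rw [hQ, hQ, h]) hv' hw', sqClass_mul_self]
    rfl
  have key : ∀ u (hu : Q7 c u ≠ 0) (K : Matrix (Fin 7) (Fin 7) F),
      (∀ z, K *ᵥ z = z - (2 * (u ⬝ᵥ z) / (u ⬝ᵥ u)) • u) →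
      ((refl (Q7 c) u hu : Matrix.GeneralLinearGroup (Fin 7) F) : Matrix (Fin 7) (Fin 7) F) = K := by
    intro u hu K hK
    refine Matrix.ext_iff_mulVec.2 fun z => ?_
    rw [refl_mulVec, hK, hQ, hP]
    congr 2
    field_simp
  exact ⟨⟨_, hmem⟩, by rw [← key v hv' M hM, ← key w hw' N hN]; rfl⟩

theorem two_mul_div (h2 : (2 : F) ≠ 0) (x : F) : 2 * x / 2 = x := by
  rw [mul_div_assoc, mul_comm, div_mul_cancel₀ x h2]

/-- A sign change at one coordinate. -/
theorem flip_refl (i : Fin 7) (z : Fin 7 → F) :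
    mon F ((1 : Equiv.Perm (Fin 7)), flips [i]) *ᵥ z =
      z - (2 * (Pi.single i 1 ⬝ᵥ z) / (Pi.single i 1 ⬝ᵥ (Pi.single i 1 : Fin 7 → F))) • Pi.single i 1 := by
  rw [mon_mulVec, single_dotProduct, single_dotProduct, Pi.single_eq_same]
  funext j
  have hs : ((1 : Equiv.Perm (Fin 7)).symm j) = j := rfl
  by_cases h : j = i
  · subst h; simp [flips, hs]; ring
  · simp [flips, hs, h, Pi.single_eq_of_ne h]

/-- A transposition. -/
theorem swap_refl (h2 : (2 : F) ≠ 0) {a b : Fin 7} (hab : a ≠ b) (z : Fin 7 → F) :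
    mon F (Equiv.swap a b, 1) *ᵥ z = z - (2 * ((Pi.single a 1 - Pi.single b 1) ⬝ᵥ z) /
      ((Pi.single a 1 - Pi.single b 1) ⬝ᵥ (Pi.single a 1 - Pi.single b 1 : Fin 7 → F))) •
        (Pi.single a 1 - Pi.single b 1) := by
  rw [mon_mulVec]
  simp only [sub_dotProduct, dotProduct_sub, single_dotProduct, Pi.single_eq_same,
    Pi.single_eq_of_ne hab, Pi.single_eq_of_ne hab.symm, one_mul]
  rw [show (1 : F) - 0 - (0 - 1) = 2 by ring, two_mul_div h2]
  funext j
  by_cases ha : j = a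
  · subst ha; simp [Pi.single_eq_of_ne hab]
  by_cases hb : j = b
  · subst hb; simp [Pi.single_eq_of_ne hab.symm]
  simp [Equiv.swap_apply_of_ne_of_ne ha hb, Pi.single_eq_of_ne ha, Pi.single_eq_of_ne hb]

theorem real_swap_pair (h2 : (2 : F) ≠ 0) {c : F} (hc : c ≠ 0) {a b a' b' : Fin 7} (h : a ≠ b)
    (h' : a' ≠ b') : Real c (mon F (Equiv.swap a b * Equiv.swap a' b', 1)) := by
  have hn : ∀ x y : Fin 7, x ≠ y →
      (Pi.single x 1 - Pi.single y 1) ⬝ᵥ (Pi.single x 1 - Pi.single y 1 : Fin 7 → F) = 2 := by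
    intro x y hxy
    simp only [sub_dotProduct, dotProduct_sub, single_dotProduct, Pi.single_eq_same,
      Pi.single_eq_of_ne hxy, Pi.single_eq_of_ne hxy.symm, one_mul]
    ring
  have h1 := real_refl_pair h2 hc _ _ (by rw [hn a b h]; exact h2) (by rw [hn a b h, hn a' b' h'])
    (mon F (Equiv.swap a b, 1)) (mon F (Equiv.swap a' b', 1)) (swap_refl h2 h) (swap_refl h2 h')
  rwa [mon_mul, show pmul (Equiv.swap a b, 1) (Equiv.swap a' b', 1) =
    (Equiv.swap a b * Equiv.swap a' b', 1) from Prod.ext rfl (funext fun i => mul_one _)] at h1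

theorem real_flip_pair (h2 : (2 : F) ≠ 0) {c : F} (hc : c ≠ 0) {i j : Fin 7} (hij : i ≠ j) :
    Real c (mon F ((1 : Equiv.Perm (Fin 7)), flips [i, j])) := by
  have h1 := real_refl_pair (c := c) h2 hc (Pi.single i 1) (Pi.single j 1)
    (by simp) (by simp) _ _ (flip_refl i) (flip_refl j)
  rw [mon_mul] at h1
  rw [show ((1 : Equiv.Perm (Fin 7)), flips [i, j]) = pmul (1, flips [i]) (1, flips [j]) from ?_]
  · exact h1
  refine Prod.ext (mul_one (1 : Equiv.Perm (Fin 7))).symm (funext fun k => ?_)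
  show flips [i, j] k = flips [i] k * flips [j] k
  simp only [flips, List.mem_cons, List.not_mem_nil, or_false]
  by_cases hi : k = i <;> by_cases hj : k = j <;> simp_all

/-- Diagonal elements of determinant one. -/
theorem real_diag (h2 : (2 : F) ≠ 0) {c : F} (hc : c ≠ 0) (s : Fin 7 → ℤˣ) (hs : ∏ i, s i = 1) :
    Real c (mon F ((1 : Equiv.Perm (Fin 7)), s)) := by
  rw [signs_eq s hs]
  induction (Finset.univ : Finset (Fin 6)) using Finset.induction_on with
  | empty =>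
    simp only [Finset.prod_empty]
    rw [show ((1 : Equiv.Perm (Fin 7)), fun _ : Fin 7 => (1 : ℤˣ)) = ((1 : Equiv.Perm (Fin 7)), 1)
      from rfl, mon_one]
    exact real_one c
  | @insert i t hi ih =>
    simp only [Finset.prod_insert hi]
    by_cases h : s i.castSucc = -1
    · have hne : i.castSucc ≠ 6 := fun e => absurd (congrArg Fin.val e) (by simp; omega)
      have := (real_flip_pair h2 hc hne).mul ih
      rw [mon_mul] at this
      refine (congrArg (fun a => Real c (mon F a)) ?_).mpr this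
      refine Prod.ext (mul_one (1 : Equiv.Perm (Fin 7))).symm (funext fun j => ?_)
      show _ = flips [i.castSucc, 6] j * _
      simp [h]
      rfl
    · simpa [h] using ih

theorem real_perms (h2 : (2 : F) ≠ 0) {c : F} (hc : c ≠ 0) : ∀ p ∈ perms, Real c (mon F (p, 1)) := by
  have hmul : ∀ p p' : Equiv.Perm (Fin 7), Real c (mon F (p, 1)) → Real c (mon F (p', 1)) →
      Real c (mon F (p * p', 1)) := fun p p' h h' => by
    have h3 := h.mul h'
    rwa [mon_mul, show pmul (p, 1) (p', 1) = (p * p', 1) from Prod.ext rfl (funext fun i => mul_one _)]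
      at h3
  have ha : Real c (mon F (rA, 1)) := real_swap_pair h2 hc (by decide) (by decide)
  have hb : Real c (mon F (rB, 1)) := real_swap_pair h2 hc (by decide) (by decide)
  have h1 : Real c (mon F ((1 : Equiv.Perm (Fin 7)), 1)) := by rw [mon_one]; exact real_one c
  intro p hp
  simp only [perms, List.mem_cons, List.not_mem_nil, or_false] at hp
  rcases hp with rfl | rfl | rfl | rfl | rfl | rfl | rfl | rfl
  exacts [h1, ha, hb, hmul _ _ ha hb, hmul _ _ hb ha, hmul _ _ (hmul _ _ ha hb) ha,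
    hmul _ _ (hmul _ _ hb ha) hb, hmul _ _ (hmul _ _ (hmul _ _ ha hb) ha) hb]

theorem real_mem (h2 : (2 : F) ≠ 0) {c : F} (hc : c ≠ 0) {a : Pair} (ha : Mem a) :
    Real c (mon F a) := by
  have h := (real_diag h2 hc a.2 ha.2).mul (real_perms h2 hc a.1 ha.1)
  rw [mon_mul] at h
  refine (congrArg (fun b => Real c (mon F b)) ?_).mpr h
  exact Prod.ext (one_mul a.1).symm (funext fun i => (mul_one (a.2 i)).symm)

/-- Twice the element mixing the first four coordinates. -/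
def hInt (R : Type*) [CommRing R] : Matrix (Fin 7) (Fin 7) R :=
  (!![1, 1, 1, 1, 0, 0, 0; 1, 1, -1, -1, 0, 0, 0; 1, -1, 1, -1, 0, 0, 0; 1, -1, -1, 1, 0, 0, 0;
    0, 0, 0, 0, 2, 0, 0; 0, 0, 0, 0, 0, 2, 0; 0, 0, 0, 0, 0, 0, -2] : Matrix (Fin 7) (Fin 7) ℤ).map
    (Int.castRingHom R)

/-- The element mixing the first four coordinates. -/
theorem real_h (h2 : (2 : F) ≠ 0) {c : F} (hc : c ≠ 0) :
    Real c ((2 : F)⁻¹ • hInt F) := by
  obtain ⟨v, hv⟩ : ∃ v : Fin 7 → F, v = ![-2⁻¹, 2⁻¹, 2⁻¹, 2⁻¹, 0, 0, 0] := ⟨_, rfl⟩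
  have hvv : v ⬝ᵥ v = 1 := by
    subst hv
    simp [dotProduct, Fin.sum_univ_seven]
    field_simp
    ring
  obtain ⟨M, hM⟩ : ∃ M : Matrix (Fin 7) (Fin 7) F,
      M = 1 - (2 : F) • Matrix.vecMulVec v v := ⟨_, rfl⟩
  have hM' : ∀ z, M *ᵥ z = z - (2 * (v ⬝ᵥ z) / (v ⬝ᵥ v)) • v := fun z => by
    rw [hM, Matrix.sub_mulVec, Matrix.one_mulVec, Matrix.smul_mulVec, Matrix.vecMulVec_mulVec, hvv,
      div_one]
    congr 1
    funext i
    simp
    ring
  have h1 := real_refl_pair (c := c) h2 hc v (Pi.single 6 1) (by rw [hvv]; exact one_ne_zero)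
    (by rw [hvv]; simp) M (mon F ((1 : Equiv.Perm (Fin 7)), flips [6])) hM' (flip_refl 6)
  convert h1 using 1
  subst hM hv
  ext i j
  fin_cases i <;> fin_cases j <;>
    simp [hInt, Matrix.mul_apply, Fin.sum_univ_seven, mon, flips, Matrix.vecMulVec] <;>
    field_simp <;> ring

end CfsgLib.KnownC.OmegaSevenTwo
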