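import Mathlib
import Cfsg.Agent.Lib.KnownC.OmegaSevenTwo.Model
import Cfsg.Agent.Lib.KnownC.OmegaSevenTwo.Cert
import Cfsg.Agent.Lib.Fusion.SelfNormalizingCert

/-!
The Sylow model in `Ω₇(q)`: no strongly closed subgroup, no element of odd order normalizing it.
-/

set_option autoImplicit false
set_option maxRecDepth 100000
set_option linter.style.haveILetI false

namespace CfsgLib.KnownC.OmegaSevenTwo

open Matrix

variable {F : Type*} [Field F] [Finite F] {c : F}

theorem mem_one : Mem ((1 : Equiv.Perm (Fin 7)), 1) := by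
  refine ⟨by decide, ?_⟩
  simp

/-- The Sylow model as a subgroup. -/
def S7 (c : F) : Subgroup (G7 c) where
  carrier := {x | ∃ a, Mem a ∧ mv x = mon F a}
  one_mem' := ⟨_, mem_one, by rw [mv_one, mon_one]⟩
  mul_mem' := by
    rintro x y ⟨a, ha, hx⟩ ⟨b, hb, hy⟩
    exact ⟨_, mem_pmul ha hb, by rw [mv_mul, hx, hy, mon_mul]⟩
  inv_mem' := by
    rintro x ⟨a, ha, hx⟩
    obtain ⟨k, hk⟩ : ∃ k : ℕ, x⁻¹ = x ^ k := by
      refine ⟨orderOf x - 1, inv_eq_of_mul_eq_one_right ?_⟩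
      rw [← pow_succ', Nat.sub_add_cancel (orderOf_pos x), pow_orderOf_eq_one]
    rw [hk, Set.mem_ofPred_eq]
    clear hk
    induction k with
    | zero => exact ⟨_, mem_one, by rw [pow_zero, mv_one, mon_one]⟩
    | succ k ih =>
      obtain ⟨b, hb, hb'⟩ := ih
      exact ⟨_, mem_pmul hb ha, by rw [pow_succ, mv_mul, hx, hb', mon_mul]⟩

theorem card_S7 (h2 : (2 : F) ≠ 0) (hc : c ≠ 0) : Nat.card (S7 c) = 512 := by
  have hmem : ∀ a : {a : Pair | a.1 ∈ perms ∧ ∏ i, a.2 i = 1},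
      ∃ x : G7 c, mv x = mon F a.1 := fun a => real_mem h2 hc a.2
  choose f hf using hmem
  rw [← card_model, ← Nat.card_coe_set_eq]
  refine (Nat.card_congr (Equiv.ofBijective (fun a => (⟨f a, a.1, a.2, hf a⟩ : S7 c)) ⟨?_, ?_⟩)).symm
  · intro a b h
    have h' : f a = f b := congrArg Subtype.val h
    exact Subtype.ext (mon_injective h2 (by rw [← hf a, ← hf b, h']))
  · rintro ⟨x, a, ha, hx⟩
    exact ⟨⟨a, ha⟩, Subtype.ext (mv_injective (by rw [hx, hf]))⟩

theorem isPGroup_S7 (h2 : (2 : F) ≠ 0) (hc : c ≠ 0) : IsPGroup 2 (S7 c) :=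
  IsPGroup.of_card (n := 9) (by rw [card_S7 h2 hc]; norm_num)

theorem mem_S7_of_mv (h2 : (2 : F) ≠ 0) (hc : c ≠ 0) {a : Pair} (ha : Mem a) :
    ∃ x ∈ S7 c, mv x = mon F a := by
  obtain ⟨x, hx⟩ := real_mem h2 hc ha
  exact ⟨x, ⟨a, ha, hx⟩, hx⟩

theorem real_quadPerm (h2 : (2 : F) ≠ 0) (hc : c ≠ 0) :
    ∀ σ : List (Fin 7 × Fin 7 × Fin 7 × Fin 7),
      (σ.all fun q => decide (q.1 ≠ q.2.1 ∧ q.2.2.1 ≠ q.2.2.2)) = true →
        Real c (mon F (quadPerm σ, 1)) := by
  intro σ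
  induction σ with
  | nil =>
    intro _
    rw [quadPerm, mon_one]
    exact real_one c
  | cons q l ih =>
    intro h
    obtain ⟨a, b, d, e⟩ := q
    simp only [List.all_cons, Bool.and_eq_true, decide_eq_true_eq] at h
    have h1 := (real_swap_pair h2 hc h.1.1 h.1.2).mul (ih h.2)
    rwa [mon_mul, show pmul (Equiv.swap a b * Equiv.swap d e, 1) (quadPerm l, 1) =
      (quadPerm ((a, b, d, e) :: l), 1) from Prod.ext rfl (funext fun i => mul_one _)] at h1

theorem real_mover (h2 : (2 : F) ≠ 0) (hc : c ≠ 0) (h : Bool) (σ : List (Fin 7 × Fin 7 × Fin 7 × Fin 7))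
    (hσ : (σ.all fun q => decide (q.1 ≠ q.2.1 ∧ q.2.2.1 ≠ q.2.2.2)) = true) :
    ∃ (x : G7 c) (u : F), u ≠ 0 ∧ mv x = u • (moverMat h σ).map (Int.castRingHom F) := by
  have hq := real_quadPerm (c := c) h2 hc σ hσ
  cases h
  · obtain ⟨x, hx⟩ := hq
    refine ⟨x, 1, one_ne_zero, ?_⟩
    rw [one_smul, hx, moverMat, if_neg (by simp), one_mul, mon_map]
  · obtain ⟨x, hx⟩ := (real_h h2 hc).mul hq
    refine ⟨x, 2⁻¹, inv_ne_zero h2, ?_⟩
    rw [hx, moverMat, if_pos rfl, Matrix.map_mul, mon_map, Matrix.smul_mul]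
    rfl

theorem runMoves_sound (h2 : (2 : F) ≠ 0) (hc : c ≠ 0) {T : Subgroup (G7 c)}
    (hT : ∀ x ∈ T, ∀ g : G7 c, g * x * g⁻¹ ∈ S7 c → g * x * g⁻¹ ∈ T) :
    ∀ (l : List Move) (known : List Pair), (∀ a ∈ known, ∃ x ∈ T, mv x = mon F a) →
      runMoves known l = true →
        ∀ a : Pair, a ∈ [el 1 [], el 2 []] ∨ (∃ i : Fin 6, a = el 0 [i.castSucc, 6]) →
          ∃ x ∈ T, mv x = mon F a := by
  intro l
  induction l with
  | nil =>
    intro known hk h a ha
    simp only [runMoves, decide_eq_true_eq] at h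
    refine hk a ?_
    rcases ha with ha | ⟨i, rfl⟩
    · simp only [List.mem_cons, List.not_mem_nil, or_false] at ha
      rcases ha with rfl | rfl
      exacts [h.1, h.2.1]
    · exact h.2.2 i
  | cons m l ih =>
    intro known hk h
    cases m with
    | prod a b d =>
      simp only [runMoves, Bool.and_eq_true, decide_eq_true_eq] at h
      obtain ⟨⟨ha, hb, hd⟩, hl⟩ := h
      refine ih _ (fun e he => ?_) hl
      rcases List.mem_cons.1 he with rfl | he
      · obtain ⟨x, hx, hxa⟩ := hk a ha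
        obtain ⟨y, hy, hyb⟩ := hk b hb
        exact ⟨x * y, mul_mem hx hy, by rw [mv_mul, hxa, hyb, mon_mul, hd]⟩
      · exact hk e he
    | conj h' σ a b =>
      simp only [runMoves, Bool.and_eq_true, decide_eq_true_eq] at h
      obtain ⟨⟨⟨⟨ha, hb⟩, hσ⟩, hM⟩, hl⟩ := h
      refine ih _ (fun e he => ?_) hl
      rcases List.mem_cons.1 he with rfl | he
      · obtain ⟨x, hx, hxa⟩ := hk a ha
        obtain ⟨g, u, -, hg⟩ := real_mover (c := c) h2 hc h' σ hσ
        have hM' := congrArg (fun M : Matrix (Fin 7) (Fin 7) ℤ => M.map (Int.castRingHom F)) hM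
        simp only [Matrix.map_mul, mon_map] at hM'
        have h1 : mv (g * x) = mon F e * mv g := by
          rw [mv_mul, hxa, hg, Matrix.smul_mul, Matrix.mul_smul, hM']
        have h3 : mv (g * x * g⁻¹) = mon F e := by
          rw [mv_mul, h1, mul_assoc, ← mv_mul, mul_inv_cancel, mv_one, mul_one]
        exact ⟨_, hT x hx g ⟨e, hb, h3⟩, h3⟩
      · exact hk e he

theorem flips_four_five_ne : flips [4, 5] ≠ 1 ∧ flips [0, 1, 2, 3] ≠ 1 ∧ flips [0, 1, 2, 3, 4, 5] ≠ 1 := by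
  decide

/-- No proper non-trivial strongly closed subgroup. -/
theorem noStronglyClosed (h2 : (2 : F) ≠ 0) (hc : c ≠ 0) :
    CfsgLib.Fusion.NoStronglyClosed (S7 c) := by
  intro T hT hTc
  rcases eq_or_ne T ⊥ with h | hne
  · exact Or.inl h
  refine Or.inr (le_antisymm hT ?_)
  -- a central element
  haveI : Finite (G7 c) := inferInstance
  obtain ⟨t, htT, ht1, htc⟩ : ∃ t ∈ T, t ≠ 1 ∧ ∀ s ∈ S7 c, s * t = t * s := by
    letI : MulAction (S7 c) T :=
      { smul := fun s t => ⟨s * t * (s : G7 c)⁻¹, hTc t t.2 s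
            (mul_mem (mul_mem s.2 (hT t.2)) (inv_mem s.2))⟩
        one_smul := fun t => Subtype.ext (by show (1 : G7 c) * t * 1⁻¹ = t; simp)
        mul_smul := fun a b t => Subtype.ext (by
          show (a : G7 c) * b * t * ((a : G7 c) * b)⁻¹ = a * (b * t * (b : G7 c)⁻¹) * (a : G7 c)⁻¹
          group) }
    haveI : Fact (Nat.Prime 2) := ⟨Nat.prime_two⟩
    haveI : Nontrivial T := T.nontrivial_iff_ne_bot.2 hne
    have hdvd : 2 ∣ Nat.card T := by
      obtain ⟨e, he⟩ := IsPGroup.iff_card.1 ((isPGroup_S7 h2 hc).to_le hT)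
      rw [he]
      refine dvd_pow_self 2 fun h0 => ?_
      rw [h0, pow_zero] at he
      have := Finite.one_lt_card (α := T)
      omega
    have hone : (1 : T) ∈ MulAction.fixedPoints (S7 c) T := fun s => Subtype.ext (by
      show (s : G7 c) * 1 * (s : G7 c)⁻¹ = 1; simp)
    obtain ⟨t, ht, ht1⟩ :=
      (isPGroup_S7 h2 hc).exists_fixed_point_of_prime_dvd_card_of_fixed_point T hdvd hone
    exact ⟨t, t.2, fun h => ht1 (Subtype.ext h.symm),
      fun s hs => mul_inv_eq_iff_eq_mul.1 (congrArg Subtype.val (ht ⟨s, hs⟩))⟩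
  obtain ⟨⟨p, s⟩, ⟨hp, hs⟩, htm⟩ := hT htT
  have hcomm : ∀ b, Mem b → pmul (p, s) b = pmul b (p, s) := fun b hb => by
    obtain ⟨y, hy, hyb⟩ := mem_S7_of_mv h2 hc hb
    refine mon_injective h2 ?_
    rw [← mon_mul, ← mon_mul, ← hyb, ← htm, ← mv_mul, ← mv_mul, htc y hy]
  obtain ⟨rfl, hs'⟩ := centre_model p hp s hs (hcomm _ ⟨by decide, by decide⟩)
    (hcomm _ ⟨by decide, by decide⟩) (hcomm _ ⟨by decide, by decide⟩)
  obtain ⟨l, z, hz, hl⟩ : ∃ (l : List Move) (z : Pair), z = (1, s) ∧ runMoves [z] l = true := by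
    rcases hs' with rfl | rfl | rfl | rfl
    · exfalso
      exact ht1 (mv_injective (by rw [htm, mon_one, mv_one]))
    exacts [⟨moves1, _, rfl, moves1_ok⟩, ⟨moves2, _, rfl, moves2_ok⟩, ⟨moves3, _, rfl, moves3_ok⟩]
  have hgen := runMoves_sound h2 hc hTc l [z]
    (fun a ha => by rw [List.mem_singleton.1 ha, hz]; exact ⟨t, htT, htm⟩) hl
  have hMul : ∀ a b : Pair, (∃ x ∈ T, mv x = mon F a) → (∃ x ∈ T, mv x = mon F b) →
      ∃ x ∈ T, mv x = mon F (pmul a b) := by
    rintro a b ⟨x, hx, hxa⟩ ⟨y, hy, hyb⟩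
    exact ⟨x * y, mul_mem hx hy, by rw [mv_mul, hxa, hyb, mon_mul]⟩
  have hperm : ∀ q ∈ perms, ∃ x ∈ T, mv x = mon F (q, 1) := by
    have h0 : ∃ x ∈ T, mv x = mon F ((1 : Equiv.Perm (Fin 7)), 1) :=
      ⟨1, one_mem _, by rw [mv_one, mon_one]⟩
    have hm : ∀ q q', (∃ x ∈ T, mv x = mon F (q, 1)) → (∃ x ∈ T, mv x = mon F (q', 1)) →
        ∃ x ∈ T, mv x = mon F (q * q', 1) := fun q q' h h' => by
      have h3 := hMul _ _ h h'
      rwa [show pmul (q, 1) (q', 1) = (q * q', 1) from Prod.ext rfl (funext fun i => mul_one _)] at h3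
    have ha := hgen (el 1 []) (Or.inl (by simp))
    have hb := hgen (el 2 []) (Or.inl (by simp))
    rw [show el 1 [] = (rA, 1) from Prod.ext rfl (funext fun i => by simp [el, flips])] at ha
    rw [show el 2 [] = (rB, 1) from Prod.ext rfl (funext fun i => by simp [el, flips])] at hb
    intro q hq
    simp only [perms, List.mem_cons, List.not_mem_nil, or_false] at hq
    rcases hq with rfl | rfl | rfl | rfl | rfl | rfl | rfl | rfl
    exacts [h0, ha, hb, hm _ _ ha hb, hm _ _ hb ha, hm _ _ (hm _ _ ha hb) ha,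
      hm _ _ (hm _ _ hb ha) hb, hm _ _ (hm _ _ (hm _ _ ha hb) ha) hb]
  have hdiag : ∀ v : Fin 7 → ℤˣ, ∏ i, v i = 1 →
      ∃ x ∈ T, mv x = mon F ((1 : Equiv.Perm (Fin 7)), v) := by
    intro v hv
    rw [signs_eq v hv]
    induction (Finset.univ : Finset (Fin 6)) using Finset.induction_on with
    | empty =>
      simp only [Finset.prod_empty]
      exact ⟨1, one_mem _, by rw [mv_one]; exact mon_one.symm⟩
    | @insert i u hi ih =>
      simp only [Finset.prod_insert hi]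
      by_cases h : v i.castSucc = -1
      · have h3 := hMul _ _ (hgen (el 0 [i.castSucc, 6]) (Or.inr ⟨i, rfl⟩)) ih
        refine (congrArg (fun a => ∃ x ∈ T, mv x = mon F a) ?_).mpr h3
        refine Prod.ext (mul_one (1 : Equiv.Perm (Fin 7))).symm (funext fun j => ?_)
        show _ = flips [i.castSucc, 6] j * _
        simp [h]
        rfl
      · simpa [h] using ih
  rintro y ⟨⟨q, v⟩, ⟨hq, hv⟩, hy⟩
  obtain ⟨x, hx, hxm⟩ := hMul _ _ (hdiag v hv) (hperm q hq)
  rw [show pmul ((1 : Equiv.Perm (Fin 7)), v) (q, 1) = (q, v) from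
    Prod.ext (one_mul q) (funext fun i => mul_one (v i)), ← hy] at hxm
  exact mv_injective hxm ▸ hx

end CfsgLib.KnownC.OmegaSevenTwo
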