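import Mathlib
import Cfsg.Agent.Lib.KnownC.OmegaSevenTwo.Fusion

/-!
No element of odd order normalizes the Sylow model of `Ω₇(q)`.
-/

set_option autoImplicit false
set_option maxRecDepth 100000
set_option linter.style.haveILetI false

namespace CfsgLib.KnownC.OmegaSevenTwo

open Matrix CfsgLib.BlockA.OrthBlocks
open QuadraticMap (polar)

variable {F : Type*} [Field F]

theorem mul_mon_apply (A : Matrix (Fin 7) (Fin 7) F) (a : Pair) (i j : Fin 7) :
    (A * mon F a) i j = A i (a.1 j) * ((a.2 (a.1 j) : ℤ) : F) := by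
  rw [Matrix.mul_apply, Finset.sum_eq_single (a.1 j)]
  · simp [mon]
  · intro k _ hk; simp [mon, hk]
  · simp

theorem mon_mul_apply (A : Matrix (Fin 7) (Fin 7) F) (a : Pair) (i j : Fin 7) :
    (mon F a * A) i j = ((a.2 i : ℤ) : F) * A (a.1.symm i) j :=
  congrFun (mon_mulVec a (fun k => A k j)) i

theorem units_sub_ne (h2 : (2 : F) ≠ 0) {u v : ℤˣ} (h : u ≠ v) :
    ((u : ℤ) : F) - ((v : ℤ) : F) ≠ 0 := by
  rcases Int.units_eq_one_or u with rfl | rfl <;> rcases Int.units_eq_one_or v with rfl | rfl <;>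
    first | exact absurd rfl h | (intro e; norm_num at e; exact h2 e) |
      (intro e; norm_num at e; exact h2 (by linear_combination e)) |
      (intro e; norm_num at e; exact h2 (by linear_combination -e))

/-- A matrix commuting with a diagonal sign matrix. -/
theorem apply_eq_zero_of_commute (h2 : (2 : F) ≠ 0) {A : Matrix (Fin 7) (Fin 7) F} {s t : Fin 7 → ℤˣ}
    (h : A * mon F ((1 : Equiv.Perm (Fin 7)), s) = mon F ((1 : Equiv.Perm (Fin 7)), t) * A)
    {i j : Fin 7} (hij : s j ≠ t i) : A i j = 0 := by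
  have e := congrFun (congrFun h i) j
  rw [mul_mon_apply, mon_mul_apply] at e
  have e' : A i j * (((s j : ℤ) : F) - ((t i : ℤ) : F)) = 0 := by
    rw [mul_sub, sub_eq_zero]
    rw [mul_comm (A i j) ((t i : ℤ) : F)]
    exact e
  exact (mul_eq_zero.1 e').resolve_right (units_sub_ne h2 hij)

/-- A diagonal entry of a signed permutation. -/
theorem diag_entry (h2 : (2 : F) ≠ 0) {b : Pair} {i : Fin 7} {u : ℤˣ}
    (h : mon F b i i = ((u : ℤ) : F)) : b.1 i = i ∧ b.2 i = u := by
  by_cases hi : i = b.1 i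
  · rw [mon, if_pos hi] at h
    refine ⟨hi.symm, ?_⟩
    by_contra hne
    exact units_sub_ne h2 hne (sub_eq_zero.2 h)
  · rw [mon, if_neg hi] at h
    exfalso
    rcases Int.units_eq_one_or u with rfl | rfl <;> simp at h

/-- A scalar column of a matrix of odd order. -/
theorem col_scalar {A : Matrix (Fin 7) (Fin 7) F} {n : ℕ} (hn : Odd n) (hA : A ^ n = 1)
    (horth : Aᵀ * A = 1) {j : Fin 7} (h : ∀ i, i ≠ j → A i j = 0) : A j j = 1 := by
  have hsq : A j j * A j j = 1 := by
    have e := congrFun (congrFun horth j) j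
    rw [Matrix.mul_apply, Finset.sum_eq_single j, Matrix.one_apply_eq] at e
    · exact e
    · intro k _ hk; rw [Matrix.transpose_apply, h k hk, mul_zero]
    · simp
  have hpow : ∀ k : ℕ, ∀ i, (A ^ k) i j = if i = j then A j j ^ k else 0 := by
    intro k
    induction k with
    | zero => intro i; rw [pow_zero, pow_zero, Matrix.one_apply]
    | succ k ih =>
      intro i
      rw [pow_succ, Matrix.mul_apply, Finset.sum_eq_single j, ih]
      · split <;> simp [pow_succ]
      · intro l _ hl; rw [h l hl, mul_zero]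
      · simp
  have e := hpow n j
  rw [hA, Matrix.one_apply_eq, if_pos rfl] at e
  rcases mul_self_eq_one_iff.1 hsq with h1 | h1
  · exact h1
  · rw [h1, hn.neg_one_pow] at e
    rw [h1, ← e]

theorem central_flips : ∀ s : Fin 7 → ℤˣ,
    (s = flips [4, 5] ∨ s = flips [0, 1, 2, 3] ∨ s = flips [0, 1, 2, 3, 4, 5]) →
    ∀ a, Mem a → pmul (1, s) a = pmul a (1, s) := by
  intro s hs a ha
  have hinv : ∀ p ∈ perms, ∀ i : Fin 7, flips [4, 5] (p.symm i) = flips [4, 5] i ∧
      flips [0, 1, 2, 3] (p.symm i) = flips [0, 1, 2, 3] i ∧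
      flips [0, 1, 2, 3, 4, 5] (p.symm i) = flips [0, 1, 2, 3, 4, 5] i := by decide +kernel
  refine Prod.ext ((one_mul a.1).trans (mul_one a.1).symm) (funext fun i => ?_)
  show s i * a.2 ((1 : Equiv.Perm (Fin 7)).symm i) = a.2 i * s (a.1.symm i)
  have h := hinv a.1 ha.1 i
  rcases hs with rfl | rfl | rfl
  · rw [h.1]; exact mul_comm _ _
  · rw [h.2.1]; exact mul_comm _ _
  · rw [h.2.2]; exact mul_comm _ _

/-- The trace of a signed permutation. -/
def tr (b : Pair) : ℤ := ∑ j, if b.1 j = j then (b.2 j : ℤ) else 0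

theorem trace_mon (b : Pair) : (mon F b).trace = ((tr b : ℤ) : F) := by
  rw [Matrix.trace, tr, Int.cast_sum]
  refine Finset.sum_congr rfl fun j _ => ?_
  rw [Matrix.diag_apply, mon]
  by_cases h : b.1 j = j
  · rw [if_pos h.symm, if_pos h]
  · rw [if_neg (Ne.symm h), if_neg h, Int.cast_zero]

theorem tr_values : tr (1, flips [4, 5]) = 3 ∧ tr (1, flips [0, 1, 2, 3]) = -1 ∧
    tr (1, flips [0, 1, 2, 3, 4, 5]) = -5 ∧ ∀ i : Fin 6, tr (1, flips [i.castSucc, 6]) = 3 := by
  decide +kernel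

/-- The key computation on matrices. -/
theorem eq_one_of_normalizes (h2 : (2 : F) ≠ 0) {A : Matrix (Fin 7) (Fin 7) F} {n : ℕ} (hn : Odd n)
    (hA : A ^ n = 1) (horth : Aᵀ * A = 1)
    (hfwd : ∀ a, Mem a → ∃ b, Mem b ∧ A * mon F a = mon F b * A)
    (hbwd : ∀ b, Mem b → ∃ a, Mem a ∧ A * mon F a = mon F b * A) : A = 1 := by
  have horth' : A * Aᵀ = 1 := mul_eq_one_comm.1 horth
  have hinj : ∀ a a' b, A * mon F a = mon F b * A → A * mon F a' = mon F b * A → a = a' := by
    intro a a' b h h'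
    refine mon_injective h2 ?_
    have := congrArg (Aᵀ * ·) (h.trans h'.symm)
    simpa [← mul_assoc, horth] using this
  have himg : ∀ a b, A * mon F a = mon F b * A → mon F b = A * mon F a * Aᵀ := fun a b h => by
    rw [h, mul_assoc, horth', mul_one]
  have htr : ∀ a b, A * mon F a = mon F b * A → ((tr b : ℤ) : F) = ((tr a : ℤ) : F) := by
    intro a b h
    rw [← trace_mon, ← trace_mon, himg a b h, Matrix.trace_mul_comm, ← mul_assoc, horth, one_mul]
  have hne4 : (4 : F) ≠ 0 := by
    rw [show (4 : F) = 2 * 2 by norm_num]; exact mul_ne_zero h2 h2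
  have hne8 : (8 : F) ≠ 0 := by
    rw [show (8 : F) = 2 * 4 by norm_num]; exact mul_ne_zero h2 hne4
  -- the centre is fixed
  have hz : ∀ s, (s = flips [4, 5] ∨ s = flips [0, 1, 2, 3]) →
      A * mon F ((1 : Equiv.Perm (Fin 7)), s) = mon F ((1 : Equiv.Perm (Fin 7)), s) * A := by
    intro s hs
    have hs3 : s = flips [4, 5] ∨ s = flips [0, 1, 2, 3] ∨ s = flips [0, 1, 2, 3, 4, 5] := by
      rcases hs with h | h <;> simp [h]
    have hmem : Mem ((1 : Equiv.Perm (Fin 7)), s) := by
      rcases hs with rfl | rfl <;> exact ⟨by decide, by decide⟩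
    obtain ⟨⟨p, t⟩, ⟨hp, ht⟩, hb⟩ := hfwd _ hmem
    have hc : ∀ b, Mem b → pmul (p, t) b = pmul b (p, t) := by
      intro b hb'
      obtain ⟨a, ha, hab⟩ := hbwd b hb'
      refine mon_injective h2 ?_
      have e1 : A * mon F (pmul (1, s) a) = mon F (pmul (p, t) b) * A := by
        rw [← mon_mul, ← mon_mul, ← mul_assoc, hb, mul_assoc, hab, ← mul_assoc]
      have e2 : A * mon F (pmul a (1, s)) = mon F (pmul b (p, t)) * A := by
        rw [← mon_mul, ← mon_mul, ← mul_assoc, hab, mul_assoc, hb, ← mul_assoc]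
      rw [← central_flips s hs3 a ha] at e2
      rw [himg _ _ e1, himg _ _ e2]
    obtain ⟨rfl, ht'⟩ := centre_model p hp t ht (hc _ ⟨by decide, by decide⟩)
      (hc _ ⟨by decide, by decide⟩) (hc _ ⟨by decide, by decide⟩)
    have e := htr _ _ hb
    obtain ⟨t1, t2, t3, -⟩ := tr_values
    rcases ht' with rfl | rfl | rfl | rfl
    · exfalso
      rw [mon_one, one_mul] at hb
      have h' : mon F ((1 : Equiv.Perm (Fin 7)), s) = mon F ((1 : Equiv.Perm (Fin 7)), 1) := by
        rw [mon_one]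
        have h3 := congrArg (Aᵀ * ·) hb
        simpa [← mul_assoc, horth] using h3
      have h4 : s = 1 := congrArg Prod.snd (mon_injective h2 h')
      rcases hs with rfl | rfl
      exacts [flips_four_five_ne.1 h4, flips_four_five_ne.2.1 h4]
    all_goals rcases hs with rfl | rfl
    all_goals first | exact hb | skip
    all_goals exfalso
    all_goals simp only [t1, t2, t3] at e
    all_goals norm_num at e
    all_goals first | exact hne4 (by linear_combination e) | exact hne4 (by linear_combination -e) |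
      exact hne8 (by linear_combination e) | exact hne8 (by linear_combination -e)
  have hblock : ∀ i j : Fin 7, (flips [4, 5] j ≠ flips [4, 5] i ∨
      flips [0, 1, 2, 3] j ≠ flips [0, 1, 2, 3] i) → A i j = 0 := fun i j h => by
    rcases h with h | h
    · exact apply_eq_zero_of_commute h2 (hz _ (Or.inl rfl)) h
    · exact apply_eq_zero_of_commute h2 (hz _ (Or.inr rfl)) h
  have h66 : A 6 6 = 1 := col_scalar hn hA horth fun i hi => hblock i 6 (by revert i; decide +kernel)
  -- diagonal entries of conjugates of diagonal elements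
  have hentry : ∀ (x : Fin 7 → ℤˣ) (b : Pair), A * mon F ((1 : Equiv.Perm (Fin 7)), x) = mon F b * A →
      ∀ (i : Fin 7) (u : ℤˣ), (∀ k, A i k = 0 ∨ x k = u) → b.1 i = i ∧ b.2 i = u := by
    intro x b hb i u hu
    refine diag_entry h2 ?_
    rw [himg _ _ hb, Matrix.mul_apply]
    have h1 : ∀ k, (A * mon F ((1 : Equiv.Perm (Fin 7)), x)) i k * Aᵀ k i =
        ((u : ℤ) : F) * (A i k * Aᵀ k i) := fun k => by
      rw [mul_mon_apply]
      rcases hu k with h | h
      · simp [h]
      · show A i k * ((x k : ℤ) : F) * Aᵀ k i = _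
        rw [h]; ring
    rw [Finset.sum_congr rfl fun k _ => h1 k, ← Finset.mul_sum, ← Matrix.mul_apply, horth',
      Matrix.one_apply_eq, mul_one]
  -- the block of two coordinates
  have htwo : ∀ v, (v = flips [4, 6] ∨ v = flips [5, 6]) → ∃ w, (w = flips [4, 6] ∨ w = flips [5, 6]) ∧
      A * mon F ((1 : Equiv.Perm (Fin 7)), v) = mon F ((1 : Equiv.Perm (Fin 7)), w) * A := by
    intro v hv
    have hmem : Mem ((1 : Equiv.Perm (Fin 7)), v) := by
      rcases hv with rfl | rfl <;> exact ⟨by decide, by decide⟩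
    obtain ⟨⟨p, t⟩, ⟨hp, ht⟩, hb⟩ := hfwd _ hmem
    have h4 : ∀ j : Fin 4, p (j.castLE (by norm_num)) = j.castLE (by norm_num) ∧
        t (j.castLE (by norm_num)) = 1 := fun j => by
      refine hentry v (p, t) hb _ 1 fun k => ?_
      have key : ∀ (j : Fin 4) (k : Fin 7),
          (flips [4, 5] k ≠ flips [4, 5] (j.castLE (by norm_num)) ∨
            flips [0, 1, 2, 3] k ≠ flips [0, 1, 2, 3] (j.castLE (by norm_num))) ∨
          (flips [4, 6] k = 1 ∧ flips [5, 6] k = 1) := by decide +kernel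
      rcases key j k with h | ⟨h, h'⟩
      · exact Or.inl (hblock _ _ h)
      · rcases hv with rfl | rfl <;> exact Or.inr ‹_›
    have h6 : t 6 = -1 := by
      refine (hentry v (p, t) hb 6 (-1) fun k => ?_).2
      have key : ∀ k : Fin 7, (flips [4, 5] k ≠ flips [4, 5] 6 ∨ flips [0, 1, 2, 3] k ≠ flips [0, 1, 2, 3] 6) ∨
          (flips [4, 6] k = -1 ∧ flips [5, 6] k = -1) := by decide +kernel
      rcases key k with h | ⟨h, h'⟩
      · exact Or.inl (hblock _ _ h)
      · rcases hv with rfl | rfl <;> exact Or.inr ‹_›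
    obtain ⟨rfl, hw⟩ := block_two p hp t ht h4 h6
    exact ⟨t, hw, hb⟩
  have hcomm : A * mon F ((1 : Equiv.Perm (Fin 7)), flips [4, 6]) =
      mon F ((1 : Equiv.Perm (Fin 7)), flips [4, 6]) * A := by
    obtain ⟨w, hw, hb⟩ := htwo _ (Or.inl rfl)
    rcases hw with rfl | rfl
    · exact hb
    obtain ⟨w', hw', hb'⟩ := htwo _ (Or.inr rfl)
    rcases hw' with rfl | rfl
    · have hsq : Commute (A ^ 2) (mon F ((1 : Equiv.Perm (Fin 7)), flips [4, 6])) := by
        show A ^ 2 * _ = _ * A ^ 2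
        rw [pow_two, mul_assoc, hb, ← mul_assoc, hb', mul_assoc]
      obtain ⟨k, rfl⟩ := hn
      have h := hsq.pow_left (k + 1)
      rw [← pow_mul, show 2 * (k + 1) = (2 * k + 1) + 1 by ring, pow_succ, hA, one_mul] at h
      exact h
    · have e := congrArg Prod.snd (hinj _ _ _ hb hb')
      exact absurd e (by decide +kernel)
  have h44 : A 4 4 = 1 := col_scalar hn hA horth fun i hi => by
    have key : ∀ i : Fin 7, i ≠ 4 → (flips [4, 5] 4 ≠ flips [4, 5] i ∨
        flips [0, 1, 2, 3] 4 ≠ flips [0, 1, 2, 3] i) ∨ flips [4, 6] 4 ≠ flips [4, 6] i := by decide +kernel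
    rcases key i hi with h | h
    · exact hblock _ _ h
    · exact apply_eq_zero_of_commute h2 hcomm h
  have h55 : A 5 5 = 1 := col_scalar hn hA horth fun i hi => by
    have key : ∀ i : Fin 7, i ≠ 5 → (flips [4, 5] 5 ≠ flips [4, 5] i ∨
        flips [0, 1, 2, 3] 5 ≠ flips [0, 1, 2, 3] i) ∨ flips [4, 6] 5 ≠ flips [4, 6] i := by decide +kernel
    rcases key i hi with h | h
    · exact hblock _ _ h
    · exact apply_eq_zero_of_commute h2 hcomm h
  -- the block of four coordinates
  have hfour : ∀ i : Fin 4, ∃ k : Fin 4,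
      A * mon F ((1 : Equiv.Perm (Fin 7)), flips [i.castLE (by norm_num), 6]) =
        mon F ((1 : Equiv.Perm (Fin 7)), flips [k.castLE (by norm_num), 6]) * A := by
    intro i
    have hmem : Mem ((1 : Equiv.Perm (Fin 7)), flips [i.castLE (by norm_num), 6]) :=
      ⟨(show (1 : Equiv.Perm (Fin 7)) ∈ perms by decide), (show ∀ k : Fin 4, ∏ j, flips [k.castLE (show 4 ≤ 7 by norm_num), 6] j = 1 by decide +kernel) i⟩
    obtain ⟨⟨p, t⟩, ⟨hp, ht⟩, hb⟩ := hfwd _ hmem
    have key : ∀ (i : Fin 4) (k : Fin 7), ∀ r ∈ [((4 : Fin 7), (1 : ℤˣ)), (5, 1), (6, -1)],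
        (flips [4, 5] k ≠ flips [4, 5] r.1 ∨ flips [0, 1, 2, 3] k ≠ flips [0, 1, 2, 3] r.1) ∨
          flips [i.castLE (by norm_num), 6] k = r.2 := by decide +kernel
    have hh : ∀ r ∈ [((4 : Fin 7), (1 : ℤˣ)), (5, 1), (6, -1)], p r.1 = r.1 ∧ t r.1 = r.2 :=
      fun r hr => hentry _ (p, t) hb _ _ fun k => by
        rcases key i k r hr with h | h
        · exact Or.inl (hblock _ _ h)
        · exact Or.inr h
    rcases block_four p hp t ht (hh (4, 1) (by simp)).1 (hh (4, 1) (by simp)).2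
      (hh (5, 1) (by simp)).2 (hh (6, -1) (by simp)).1 (hh (6, -1) (by simp)).2 with
      ⟨k, rfl, rfl⟩ | h
    · exact ⟨k, hb⟩
    exfalso
    have e := htr _ _ hb
    have e3 : tr (1, flips [i.castLE (by norm_num), 6]) = 3 :=
      (show ∀ k : Fin 4, tr (1, flips [k.castLE (show 4 ≤ 7 by norm_num), 6]) = 3 by decide +kernel) i
    rw [e3] at e
    simp only [Finset.mem_insert, Finset.mem_singleton] at h
    rcases h with h | h <;> rw [tr, h] at e <;> norm_num at e
    · exact h2 (by linear_combination -e)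
    · exact hne4 (by linear_combination -e)
  choose π hπ using hfour
  have hzero : ∀ (i : Fin 4) (j : Fin 7), j ≠ (π i).castLE (by norm_num) →
      A j (i.castLE (by norm_num)) = 0 := by
    intro i j hj
    have key : ∀ (i k : Fin 4) (j : Fin 7), j ≠ k.castLE (by norm_num) →
        (flips [4, 5] (i.castLE (by norm_num)) ≠ flips [4, 5] j ∨
          flips [0, 1, 2, 3] (i.castLE (by norm_num)) ≠ flips [0, 1, 2, 3] j) ∨
        flips [i.castLE (by norm_num), 6] (i.castLE (by norm_num)) ≠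
          flips [k.castLE (by norm_num), 6] j := by decide +kernel
    rcases key i (π i) j hj with h | h
    · exact hblock _ _ h
    · exact apply_eq_zero_of_commute h2 (hπ i) h
  have hπinj : Function.Injective π := fun i k h => by
    have e := congrArg Prod.snd (hinj _ _ _ (hπ i) (h ▸ hπ k))
    exact (show ∀ i k : Fin 4, flips [i.castLE (show 4 ≤ 7 by norm_num), 6] =
      flips [k.castLE (show 4 ≤ 7 by norm_num), 6] → i = k by decide +kernel) i k e
  obtain ⟨σ, hσ⟩ : ∃ σ : Equiv.Perm (Fin 7), ∀ i, σ i = ext4 π i := by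
    have hinj' : Function.Injective (ext4 π) := by
      intro i j h
      have hv : ∀ k : Fin 7, (h : k.val < 4) → (ext4 π k).val = (π ⟨k.val, h⟩).val := fun k h => by
        rw [ext4, dif_pos h]; rfl
      have hw : ∀ k : Fin 7, ¬ k.val < 4 → ext4 π k = k := fun k h => by rw [ext4, dif_neg h]
      by_cases hi : i.val < 4 <;> by_cases hj : j.val < 4
      · have := congrArg Fin.val h
        rw [hv i hi, hv j hj] at this
        exact Fin.ext (congrArg (fun x : Fin 4 => x.val) (hπinj (Fin.ext this)))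
      · have := congrArg Fin.val h
        rw [hv i hi, hw j hj] at this
        have := (π ⟨i.val, hi⟩).isLt
        omega
      · have := congrArg Fin.val h
        rw [hw i hi, hv j hj] at this
        have := (π ⟨j.val, hj⟩).isLt
        omega
      · rwa [hw i hi, hw j hj] at h
    exact ⟨Equiv.ofBijective _ ((Finite.injective_iff_bijective).1 hinj'), fun i => rfl⟩
  have hcol : ∀ j i, i ≠ σ j → A i j = 0 := by
    intro j i hij
    rw [hσ, ext4] at hij
    by_cases hj : j.val < 4
    · rw [dif_pos hj] at hij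
      exact hzero ⟨j.val, hj⟩ i hij
    · rw [dif_neg hj] at hij
      have key : ∀ j : Fin 7, ¬ j.val < 4 → j = 4 ∨ j = 5 ∨ j = 6 := by decide
      have k4 : ∀ i : Fin 7, i ≠ 4 → (flips [4, 5] 4 ≠ flips [4, 5] i ∨
          flips [0, 1, 2, 3] 4 ≠ flips [0, 1, 2, 3] i) ∨ flips [4, 6] 4 ≠ flips [4, 6] i := by decide +kernel
      have k5 : ∀ i : Fin 7, i ≠ 5 → (flips [4, 5] 5 ≠ flips [4, 5] i ∨
          flips [0, 1, 2, 3] 5 ≠ flips [0, 1, 2, 3] i) ∨ flips [4, 6] 5 ≠ flips [4, 6] i := by decide +kernel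
      have k6 : ∀ i : Fin 7, i ≠ 6 → (flips [4, 5] 6 ≠ flips [4, 5] i ∨
          flips [0, 1, 2, 3] 6 ≠ flips [0, 1, 2, 3] i) := by decide +kernel
      rcases key j hj with rfl | rfl | rfl
      · rcases k4 i hij with h | h
        exacts [hblock _ _ h, apply_eq_zero_of_commute h2 hcomm h]
      · rcases k5 i hij with h | h
        exacts [hblock _ _ h, apply_eq_zero_of_commute h2 hcomm h]
      · exact hblock _ _ (k6 i hij)
  have hsign : ∀ j, ∃ u : ℤˣ, A (σ j) j = ((u : ℤ) : F) := by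
    intro j
    have e := congrFun (congrFun horth j) j
    rw [Matrix.mul_apply, Finset.sum_eq_single (σ j), Matrix.one_apply_eq, Matrix.transpose_apply] at e
    · rcases mul_self_eq_one_iff.1 e with h | h
      · exact ⟨1, by rw [h]; simp⟩
      · exact ⟨-1, by rw [h]; simp⟩
    · intro k _ hk; rw [hcol j k hk, mul_zero]
    · simp
  choose u hu using hsign
  have hmon : A = mon F (σ, fun i => u (σ.symm i)) := by
    ext i j
    rw [mon]
    by_cases h : i = σ j
    · rw [if_pos h, h]; simp [hu]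
    · rw [if_neg h, hcol j i h]
  -- the permutation is trivial
  have hperm : ∀ d ∈ perms, ∃ d' ∈ perms, ∀ i, ext4 π (d i) = d' (ext4 π i) := by
    intro d hd
    obtain ⟨⟨d', t⟩, ⟨hd', -⟩, hb⟩ := hfwd (d, 1) ⟨hd, by simp⟩
    refine ⟨d', hd', fun i => ?_⟩
    rw [hmon, mon_mul, mon_mul] at hb
    have e : σ * d = d' * σ := congrArg Prod.fst (mon_injective h2 hb)
    rw [← hσ, ← hσ]
    exact Equiv.congr_fun e i
  have h8 : σ ^ 8 = 1 := Equiv.ext fun i => by
    rw [Equiv.Perm.coe_pow, show ⇑σ = ext4 π from funext hσ]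
    exact normalizer_model π hπinj hperm i
  have hpow : ∀ k : ℕ, ∃ t, A ^ k = mon F (σ ^ k, t) := by
    intro k
    induction k with
    | zero => exact ⟨1, by rw [pow_zero, pow_zero, mon_one]⟩
    | succ k ih =>
      obtain ⟨t, ht⟩ := ih
      exact ⟨_, by rw [pow_succ, ht, hmon, mon_mul, pow_succ]; rfl⟩
  obtain ⟨t, ht⟩ := hpow n
  rw [hA, ← mon_one] at ht
  have hσn : σ ^ n = 1 := (congrArg Prod.fst (mon_injective h2 ht)).symm
  have hσ1 : σ = 1 := by
    have h := pow_gcd_eq_one.2 ⟨h8, hσn⟩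
    have hg : Nat.gcd 8 n = 1 := by
      rw [show (8 : ℕ) = 2 ^ 3 by norm_num]
      exact (Nat.coprime_two_left.2 hn).pow_left 3
    rwa [hg, pow_one] at h
  ext i j
  by_cases h : i = j
  · subst h
    rw [Matrix.one_apply_eq]
    exact col_scalar hn hA horth fun k hk => hcol _ k (by rw [hσ1]; exact hk)
  · rw [Matrix.one_apply_ne h]
    exact hcol j i (by rw [hσ1]; exact h)

variable [Finite F] {c : F}

theorem orth_mv (h2 : (2 : F) ≠ 0) (hc : c ≠ 0) (g : G7 c) : (mv g)ᵀ * mv g = 1 := by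
  have hg : ∀ v, Q7 c (mv g *ᵥ v) = Q7 c v := fun v =>
    CfsgLib.BlockA.ReflOmega.map_eq_val (Q7 c) g.1 v
  have hp : ∀ v w, polar (Q7 c) (mv g *ᵥ v) (mv g *ᵥ w) = polar (Q7 c) v w := fun v w => by
    simp only [QuadraticMap.polar, ← Matrix.mulVec_add, hg]
  ext i j
  have e := hp (Pi.single i 1) (Pi.single j 1)
  rw [wq_polar, wq_polar, ← Finset.mul_sum, ← Finset.mul_sum] at e
  have e' := mul_left_cancel₀ (mul_ne_zero h2 hc) e
  simp only [Matrix.mulVec_single, MulOpposite.op_one, one_smul, Matrix.col_apply] at e'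
  rw [Matrix.mul_apply]
  simp only [Matrix.transpose_apply]
  rw [e', Matrix.one_apply]
  by_cases h : i = j
  · subst h; simp [Pi.single_apply]
  · simp [Pi.single_apply, h, Ne.symm h]

/-- No non-trivial element of odd order normalizes the model. -/
theorem no_odd_normalizer (h2 : (2 : F) ≠ 0) (hc : c ≠ 0) (g : G7 c)
    (hg : g ∈ Subgroup.normalizer (S7 c : Set (G7 c))) (hodd : Odd (orderOf g)) : g = 1 := by
  refine mv_injective (eq_one_of_normalizes h2 hodd ?_ (orth_mv h2 hc g) ?_ ?_)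
  · rw [← mv_pow, pow_orderOf_eq_one, mv_one]
  · intro a ha
    obtain ⟨x, hx, hxa⟩ := mem_S7_of_mv h2 hc ha
    obtain ⟨b, hb, hxb⟩ := (Subgroup.mem_normalizer_iff.1 hg x).1 hx
    exact ⟨b, hb, by rw [← hxa, ← hxb, ← mv_mul, ← mv_mul]; group⟩
  · intro b hb
    obtain ⟨y, hy, hyb⟩ := mem_S7_of_mv h2 hc hb
    have hx : g⁻¹ * y * g ∈ S7 c := by
      refine (Subgroup.mem_normalizer_iff.1 hg _).2 ?_
      simpa [mul_assoc] using hy
    obtain ⟨a, ha, hxa⟩ := hx
    exact ⟨a, ha, by rw [← hxa, ← hyb, ← mv_mul, ← mv_mul]; group⟩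

end CfsgLib.KnownC.OmegaSevenTwo
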