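import Mathlib
import Cfsg.Agent.Lib.KnownC.OmegaSevenTwo.Normalizer

/-!
The `2`-fusion system of `Ω₇(q)`, `q ≡ ±3 (mod 8)`.
-/

set_option autoImplicit false
set_option linter.style.haveILetI false

namespace CfsgLib.KnownC.OmegaSevenTwo

open Cfsg Cfsg.FusionSystem CfsgLib.Fusion
open CfsgLib.Geom CfsgLib.Classical CfsgLib.BlockA.OrthBlocks CfsgLib.BlockA.SqComm
open CfsgLib.BlockA.SylowSquares

/-- A self-normalizing Sylow subgroup without strongly closed subgroups. -/
theorem fusion_of_model {G : Type*} [Group G] [Finite G] (S₀ : Subgroup G) (hp : IsPGroup 2 S₀)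
    (hidx : ¬ 2 ∣ S₀.index) (h1 : S₀ ≠ ⊥) (hsc : NoStronglyClosed S₀)
    (hno : ∀ g ∈ Subgroup.normalizer (S₀ : Set G), Odd (orderOf g) → g = 1) (S : Sylow 2 G) :
    (groupFusionSystem (S : Subgroup G)).autGroup (S : Subgroup G) = Inn ↥(S : Subgroup G) ∧
      (∀ T : Subgroup G, (groupFusionSystem (S : Subgroup G)).StronglyClosed T →
        T = ⊥ ∨ T = (S : Subgroup G)) ∧
      (groupFusionSystem (S : Subgroup G)).IsSimple 2 := by
  haveI : Fact (Nat.Prime 2) := ⟨Nat.prime_two⟩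
  obtain ⟨g, hg⟩ := MulAction.exists_smul_eq G (hp.toSylow hidx) S
  have hS : (S : Subgroup G) = S₀.map (MulAut.conj g).toMonoidHom := by
    rw [← hg]
    rfl
  refine ⟨?_, ?_, group_isSimple_selfNormalizing S₀ hp hidx h1 hsc hno S⟩
  · have hN : Subgroup.normalizer ((S : Subgroup G) : Set G) ≤ (S : Subgroup G) := by
      rw [hS, ← map_normalizer_equiv (MulAut.conj g)]
      exact Subgroup.map_mono (normalizer_le_of_no_odd hp hidx hno)
    rw [group_autGroup_eq S le_rfl]
    ext α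
    rw [mem_autInducedBy_iff]
    constructor
    · rintro ⟨x, -, hx⟩
      exact ⟨⟨x, hN (mem_normalizer_of_aut hx)⟩, MulEquiv.ext fun u => Subtype.ext (hx u).symm⟩
    · rintro ⟨x, rfl⟩
      exact ⟨x, Subgroup.mem_top _, fun u => rfl⟩
  · intro T hT
    have hsc' : NoStronglyClosed (S : Subgroup G) := hS ▸ hsc.map (MulAut.conj g)
    refine hsc' T hT.1 fun x hx h hxS => ?_
    refine hT.2 (Subgroup.zpowers x) (Subgroup.zpowers_le.2 hx)
      ((MulAut.conj h).toMonoidHom.comp (Subgroup.zpowers x).subtype) ?_ ⟨x, Subgroup.mem_zpowers x⟩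
    refine ⟨Subgroup.zpowers_le.2 (hT.1 hx), fun y => ?_, h, fun y => rfl⟩
    obtain ⟨k, hk⟩ := Subgroup.mem_zpowers_iff.1 y.2
    show h * (y : G) * h⁻¹ ∈ (S : Subgroup G)
    rw [← hk, ← conj_zpow]
    exact Subgroup.zpow_mem _ hxS k

/-- The statement for `Ω₇`. -/
theorem fusion_omega_seven {F : Type*} [Field F] [Fintype F] {q : ℕ} (hF : Fintype.card F = q)
    (hq : q % 8 = 3 ∨ q % 8 = 5) (S : Sylow 2 ↥(Cfsg.Omega F (Cfsg.quadFormOdd 3 F))) :
    (groupFusionSystem (S : Subgroup ↥(Cfsg.Omega F (Cfsg.quadFormOdd 3 F)))).autGroup (S : Subgroup ↥(Cfsg.Omega F (Cfsg.quadFormOdd 3 F))) = Inn ↥(S : Subgroup ↥(Cfsg.Omega F (Cfsg.quadFormOdd 3 F))) ∧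
      (∀ T : Subgroup ↥(Cfsg.Omega F (Cfsg.quadFormOdd 3 F)),
        (groupFusionSystem (S : Subgroup ↥(Cfsg.Omega F (Cfsg.quadFormOdd 3 F)))).StronglyClosed T → T = ⊥ ∨ T = (S : Subgroup ↥(Cfsg.Omega F (Cfsg.quadFormOdd 3 F)))) ∧
      (groupFusionSystem (S : Subgroup ↥(Cfsg.Omega F (Cfsg.quadFormOdd 3 F)))).IsSimple 2 := by
  classical
  revert S
  rw [← qfOdd_coe]
  intro S
  have hodd : Odd (Fintype.card F) := by rw [hF, Nat.odd_iff]; omega
  have h2 := two_ne_zero' hodd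
  have hsep := qfOdd_sep (F := F) h2 3
  obtain ⟨c, hc⟩ : ∃ c, c = disc (qfOdd 3 F) * 2 ^ 7 := ⟨_, rfl⟩
  have hc0 : c ≠ 0 := hc ▸ mul_ne_zero (disc_ne_zero _ hsep) (pow_ne_zero _ h2)
  obtain ⟨e, he⟩ := exists_isometry h2 (qfOdd 3 F) hsep (fun _ : Fin 7 => c) (fun _ => hc0)
    (Fintype.equivOfCardEq (by simp)) (by
      rw [Finset.prod_const, Finset.card_univ, Fintype.card_fin]
      exact ⟨c ^ 4, by rw [mul_pow]; linear_combination (-c ^ 7) * hc⟩)
  obtain ⟨φ⟩ := isometryGroup_congr (qfOdd 3 F) (wq fun _ : Fin 7 => c) e he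
  let ψ : G7 c ≃* Cfsg.Omega F (⇑(qfOdd 3 F)) :=
    (φ.subgroupMap (Cfsg.Omega F (⇑(Q7 c)))).trans (MulEquiv.subgroupCongr (by
      show (commutator _).map φ.toMonoidHom = commutator _
      rw [commutator_def, Subgroup.map_commutator,
        Subgroup.map_top_of_surjective φ.toMonoidHom φ.surjective, ← commutator_def]))
  have hcard : Nat.card ((S7 c).map ψ.toMonoidHom) = 512 := by
    rw [← Nat.card_congr ((S7 c).equivMapOfInjective ψ.toMonoidHom ψ.injective).toEquiv, card_S7 h2 hc0]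
  have hidx : ¬ 2 ∣ ((S7 c).map ψ.toMonoidHom).index := by
    haveI := Fact.mk Nat.prime_two
    have hval : padicValNat 2 (Nat.card (Cfsg.Omega F (⇑(qfOdd 3 F)))) = 9 := by
      have h := Subgroup.card_mul_index (Cfsg.Omega F (⇑(qfOdd 3 F)))
      rw [omega_index_odd (qfOdd 3 F) hsep h2 (by simp)] at h
      have h' := congrArg (padicValNat 2) h
      rw [padicValNat.mul Nat.card_pos.ne' (by norm_num),
        ← Nat.card_congr (orEquiv (qfOdd 3 F)).toEquiv, card_qfOdd_isoms h2] at h'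
      have hv := val_prod hodd 3 (3 ^ 2) 1 one_ne_zero
      rw [mul_one, padicValNat.one] at hv
      rw [hv, val_sq_sub_one hodd, show (4 : ℕ) = 2 ^ 2 by norm_num, padicValNat.prime_pow,
        show Nat.factorial 3 = 2 * 3 by decide, padicValNat.mul (by norm_num) (by norm_num),
        padicValNat.self one_lt_two, padicValNat.eq_zero_of_not_dvd (show ¬ 2 ∣ 3 by norm_num), hF] at h'
      rcases hq with h8 | h8
      · rw [val_of_mod_four (n := q - 1) (by omega),
          show padicValNat 2 (q + 1) = 2 by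
            obtain ⟨k, hk⟩ : ∃ k, q + 1 = 2 ^ 2 * (2 * k + 1) := ⟨(q + 1) / 8, by omega⟩
            rw [hk, padicValNat.mul (by norm_num) (by omega), padicValNat.prime_pow,
              padicValNat.eq_zero_of_not_dvd (show ¬ 2 ∣ 2 * k + 1 by omega)]] at h'
        omega
      · rw [val_of_mod_four (n := q + 1) (by omega),
          show padicValNat 2 (q - 1) = 2 by
            obtain ⟨k, hk⟩ : ∃ k, q - 1 = 2 ^ 2 * (2 * k + 1) := ⟨(q - 1) / 8, by omega⟩
            rw [hk, padicValNat.mul (by norm_num) (by omega), padicValNat.prime_pow,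
              padicValNat.eq_zero_of_not_dvd (show ¬ 2 ∣ 2 * k + 1 by omega)]] at h'
        omega
    intro hdvd
    have h := Subgroup.card_mul_index ((S7 c).map ψ.toMonoidHom)
    rw [hcard] at h
    have h' := congrArg (padicValNat 2) h
    rw [hval, padicValNat.mul (by norm_num) Subgroup.index_ne_zero_of_finite,
      show (512 : ℕ) = 2 ^ 9 by norm_num, padicValNat.prime_pow] at h'
    have := one_le_padicValNat_of_dvd Subgroup.index_ne_zero_of_finite hdvd
    omega
  refine fusion_of_model _ ((isPGroup_S7 h2 hc0).map _) hidx ?_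
    ((noStronglyClosed h2 hc0).map ψ) (fun g hg hgodd => ?_) S
  · intro h
    rw [h, Subgroup.card_bot] at hcard
    omega
  · obtain ⟨y, rfl⟩ := ψ.surjective g
    rw [MulEquiv.orderOf_eq] at hgodd
    have hy : y ∈ Subgroup.normalizer (S7 c : Set (G7 c)) := by
      rw [← map_normalizer_equiv ψ] at hg
      obtain ⟨z, hz, hzy⟩ := hg
      exact ψ.injective hzy ▸ hz
    rw [no_odd_normalizer h2 hc0 y hy hgodd, map_one]

end CfsgLib.KnownC.OmegaSevenTwo
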